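import Groth.Prelude.Def_EtRam
import Mathlib.RingTheory.DedekindDomain.AdicValuation
import Mathlib.RingTheory.DedekindDomain.IntegralClosure
import Mathlib.RingTheory.DedekindDomain.Dvr
import Mathlib.RingTheory.Valuation.LocalSubring

/-! A valuation subring of a finite separable extension dominating a DVR is a DVR. -/

set_option autoImplicit false

namespace Groth.Agent.Lib.Helper24.TameDVR

open IsLocalRing EtRam IsDedekindDomain

universe u

section basic

variable {A : Type u} [CommRing A] [IsLocalRing A] {F : Type u} [Field F] (g : A →+* F)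
  (V : ValuationSubring F)

lemma valuation_eq_one_of_isUnit (h : Dominates A g V) {a : A} (ha : IsUnit a) :
    V.valuation (g a) = 1 := by
  obtain ⟨u, rfl⟩ := ha
  have h1 : V.valuation (g u) ≤ 1 := (V.valuation_le_one_iff _).mpr (h.1 u)
  have h2 : V.valuation (g (u⁻¹ : Aˣ)) ≤ 1 := (V.valuation_le_one_iff _).mpr (h.1 _)
  have h3 : V.valuation (g u) * V.valuation (g (u⁻¹ : Aˣ)) = 1 := by
    rw [← map_mul, ← map_mul, Units.mul_inv, map_one, map_one]
  apply le_antisymm h1
  by_contra hlt
  rw [not_le] at hlt
  have : V.valuation (g u) * V.valuation (g (u⁻¹ : Aˣ)) < 1 := by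
    calc V.valuation (g u) * V.valuation (g (u⁻¹ : Aˣ)) ≤ V.valuation (g u) * 1 := by gcongr
      _ = V.valuation (g u) := mul_one _
      _ < 1 := hlt
  rw [h3] at this
  exact lt_irrefl _ this

lemma valuation_lt_one_iff_of_dominates (h : Dominates A g V) (a : A) :
    V.valuation (g a) < 1 ↔ a ∈ maximalIdeal A := by
  constructor
  · intro hlt
    rw [mem_maximalIdeal, mem_nonunits_iff]
    intro hu
    rw [valuation_eq_one_of_isUnit g V h hu] at hlt
    exact lt_irrefl _ hlt
  · exact h.2 a

end basic

section dedekind

variable {B L : Type u} [CommRing B] [IsDedekindDomain B] [Field L] [Algebra B L]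
  [IsFractionRing B L]

theorem isDVR_of_le (V : ValuationSubring L) (hBV : ∀ b : B, algebraMap B L b ∈ V) (hne : V ≠ ⊤) :
    IsDiscreteValuationRing V := by
  have hle1 : ∀ b : B, V.valuation (algebraMap B L b) ≤ 1 := fun b =>
    (V.valuation_le_one_iff _).mpr (hBV b)
  let P : Ideal B :=
    { carrier := {b | V.valuation (algebraMap B L b) < 1}
      add_mem' := fun {a b} ha hb => by
        change V.valuation (algebraMap B L (a + b)) < 1
        rw [map_add]
        exact lt_of_le_of_lt (V.valuation.map_add _ _) (max_lt ha hb)
      zero_mem' := by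
        change V.valuation (algebraMap B L 0) < 1
        simp
      smul_mem' := fun c {b} hb => by
        change V.valuation (algebraMap B L (c * b)) < 1
        rw [map_mul, map_mul]
        calc V.valuation (algebraMap B L c) * V.valuation (algebraMap B L b)
            ≤ 1 * V.valuation (algebraMap B L b) := by gcongr; exact hle1 c
          _ = V.valuation (algebraMap B L b) := one_mul _
          _ < 1 := hb }
  have hPmem : ∀ b : B, b ∈ P ↔ V.valuation (algebraMap B L b) < 1 := fun b => Iff.rfl
  haveI hPprime : P.IsPrime := by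
    refine ⟨?_, ?_⟩
    · intro htop
      have : (1 : B) ∈ P := by rw [htop]; trivial
      rw [hPmem] at this
      simp at this
    · intro a b hab
      rw [hPmem] at hab
      by_contra hcon
      rw [not_or, hPmem, hPmem, not_lt, not_lt] at hcon
      have ha : V.valuation (algebraMap B L a) = 1 := le_antisymm (hle1 a) hcon.1
      have hb : V.valuation (algebraMap B L b) = 1 := le_antisymm (hle1 b) hcon.2
      rw [map_mul, map_mul, ha, hb, one_mul] at hab
      exact lt_irrefl _ hab
  have hPne : P ≠ ⊥ := by
    intro hbot
    apply hne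
    rw [eq_top_iff]
    intro x _
    obtain ⟨a, s, hs0, rfl⟩ := IsFractionRing.div_surjective (A := B) x
    have hs1 : V.valuation (algebraMap B L s) = 1 := by
      apply le_antisymm (hle1 s)
      by_contra hlt
      rw [not_le] at hlt
      have : s ∈ P := hlt
      rw [hbot, Ideal.mem_bot] at this
      exact (nonZeroDivisors.ne_zero hs0) this
    rw [← V.valuation_le_one_iff, map_div₀, hs1, div_one]
    exact hle1 a
  obtain ⟨v, hv⟩ : ∃ v : HeightOneSpectrum B, v.asIdeal = P := ⟨⟨P, hPprime, hPne⟩, rfl⟩
  have hle : HeightOneSpectrum.valuationSubringAtPrime L v ≤ V := by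
    rintro x ⟨a, s, hs, rfl⟩
    have hs' : V.valuation (algebraMap B L s) = 1 := by
      have h1 : ¬ V.valuation (algebraMap B L s) < 1 := by
        have : s ∉ v.asIdeal := hs
        rw [hv] at this
        exact this
      rw [not_lt] at h1
      exact le_antisymm (hle1 s) h1
    refine V.mul_mem _ _ (hBV a) ?_
    rw [← V.valuation_le_one_iff, map_inv₀, hs', inv_one]
  have heq : HeightOneSpectrum.valuationSubringAtPrime L v = V :=
    ValuationSubring.eq_of_le_of_ne_top _ hle hne
  rw [← heq]
  exact IsLocalization.AtPrime.isDiscreteValuationRing_of_dedekind_domain B (P := v.asIdeal) v.ne_bot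
    (HeightOneSpectrum.valuationSubringAtPrime L v)

end dedekind

variable (A K L : Type u) [CommRing A] [IsDomain A] [IsDiscreteValuationRing A] [Field K]
  [Algebra A K] [IsFractionRing A K] [Field L] [Algebra K L] [FiniteDimensional K L]
  [Algebra.IsSeparable K L]

theorem isDVR_of_dominates (V : ValuationSubring L)
    (h : Dominates A ((algebraMap K L).comp (algebraMap A K)) V) : IsDiscreteValuationRing V := by
  letI : Algebra A L := ((algebraMap K L).comp (algebraMap A K)).toAlgebra
  haveI : IsScalarTower A K L := IsScalarTower.of_algebraMap_eq (fun _ => rfl)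
  haveI : IsDedekindDomain (integralClosure A L) :=
    IsIntegralClosure.isDedekindDomain A K L (integralClosure A L)
  haveI : IsFractionRing (integralClosure A L) L :=
    IsIntegralClosure.isFractionRing_of_finite_extension A K L (integralClosure A L)
  letI : Algebra A V := (RingHom.codRestrict ((algebraMap K L).comp (algebraMap A K)) V h.1).toAlgebra
  haveI : IsScalarTower A V L := IsScalarTower.of_algebraMap_eq (fun _ => rfl)
  have hBV : ∀ b : integralClosure A L, algebraMap (integralClosure A L) L b ∈ V := by
    intro b
    have hx' : IsIntegral A (b : L) := b.2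
    have hx'' : IsIntegral V (b : L) := hx'.tower_top
    obtain ⟨y, hy⟩ := (IsIntegrallyClosed.isIntegral_iff (R := V) (K := L)).mp hx''
    change (b : L) ∈ V
    rw [← hy]
    exact y.2
  obtain ⟨ϖ, hϖ⟩ := IsDiscreteValuationRing.exists_irreducible A
  have hϖm : ϖ ∈ maximalIdeal A := by
    rw [mem_maximalIdeal, mem_nonunits_iff]
    exact hϖ.not_isUnit
  have hϖL : algebraMap A L ϖ ≠ 0 := by
    have : Function.Injective (algebraMap A L) := by
      rw [IsScalarTower.algebraMap_eq A K L]
      exact (algebraMap K L).injective.comp (IsFractionRing.injective A K)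
    rw [Ne, ← map_zero (algebraMap A L)]
    exact fun h0 => hϖ.ne_zero (this h0)
  have hϖv : V.valuation (algebraMap A L ϖ) < 1 := h.2 ϖ hϖm
  have hne : V ≠ ⊤ := by
    intro htop
    have : (algebraMap A L ϖ)⁻¹ ∈ V := by rw [htop]; trivial
    rw [← V.valuation_le_one_iff, map_inv₀] at this
    have h0 : V.valuation (algebraMap A L ϖ) ≠ 0 := (V.valuation.ne_zero_iff).mpr hϖL
    rw [inv_le_one₀ (zero_lt_iff.mpr h0)] at this
    exact absurd hϖv (not_lt.mpr this)
  exact isDVR_of_le V hBV hne

end Groth.Agent.Lib.Helper24.TameDVR
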