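import Groth.Agent.Lib.Helper24.Tame.Abstract
import Groth.Agent.Lib.Helper24.Tame.DVR

/-! Tame / unramified in towers (S1989, S1990). -/

set_option autoImplicit false

namespace Groth.Agent.Lib.Helper24.TameTower

open IsLocalRing EtRam

universe u

section abstract

variable (A V W : Type u) [CommRing A] [CommRing V] [CommRing W]
  [IsLocalRing A] [IsLocalRing V] [IsLocalRing W]
  [Algebra A V] [Algebra V W] [Algebra A W] [IsScalarTower A V W]
  [IsLocalHom (algebraMap A V)] [IsLocalHom (algebraMap V W)] [IsLocalHom (algebraMap A W)]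

theorem sep_bot [Algebra.IsSeparable (ResidueField A) (ResidueField W)] :
    Algebra.IsSeparable (ResidueField A) (ResidueField V) :=
  Algebra.isSeparable_tower_bot_of_isSeparable (ResidueField A) (ResidueField V) (ResidueField W)

theorem sep_trans [Algebra.IsSeparable (ResidueField A) (ResidueField V)]
    [Algebra.IsSeparable (ResidueField V) (ResidueField W)] :
    Algebra.IsSeparable (ResidueField A) (ResidueField W) :=
  Algebra.IsSeparable.trans (ResidueField A) (ResidueField V) (ResidueField W)

end abstract

section localhom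

variable {A : Type u} [CommRing A] [IsLocalRing A]

lemma isLocalHom_of_dominates {F : Type u} [Field F] {g : A →+* F} {V : ValuationSubring F}
    (h : Dominates A g V) :
    letI : Algebra A V := (RingHom.codRestrict g V h.1).toAlgebra
    IsLocalHom (algebraMap A V) := by
  letI : Algebra A V := (RingHom.codRestrict g V h.1).toAlgebra
  constructor
  intro a ha
  by_contra hna
  have hm : a ∈ maximalIdeal A := hna
  have hlt := h.2 a hm
  have h1 : V.valuation ((algebraMap A V a : V) : F) = 1 := (V.valuation_eq_one_iff _).mp ha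
  have h2 : ((algebraMap A V a : V) : F) = g a := rfl
  rw [h2] at h1
  rw [h1] at hlt
  exact lt_irrefl _ hlt

end localhom

variable (A K : Type u) [CommRing A] [IsDomain A] [IsDiscreteValuationRing A] [Field K]
  [Algebra A K] [IsFractionRing A K] (L M : Type u) [Field L] [Field M]
  [Algebra K L] [Algebra K M] [Algebra L M] [IsScalarTower K L M]

/-- structure maps. -/
abbrev gL : A →+* L := (algebraMap K L).comp (algebraMap A K)
abbrev gM : A →+* M := (algebraMap K M).comp (algebraMap A K)

lemma gM_eq (a : A) : gM A K M a = algebraMap L M (gL A K L a) := by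
  change algebraMap K M (algebraMap A K a) = algebraMap L M (algebraMap K L (algebraMap A K a))
  rw [← IsScalarTower.algebraMap_apply K L M]

variable {A K L M}

/-- domination of `W` over `V` (through `L → M`) gives domination over `A`. -/
lemma dominates_trans {V : ValuationSubring L} {W : ValuationSubring M}
    (hV : Dominates A (gL A K L) V)
    (hVW : Dominates V ((algebraMap L M).comp V.subtype) W) : Dominates A (gM A K M) W := by
  constructor
  · intro a
    rw [gM_eq A K L M]
    exact hVW.1 ⟨gL A K L a, hV.1 a⟩
  · intro a ha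
    rw [gM_eq A K L M]
    refine hVW.2 ⟨gL A K L a, hV.1 a⟩ ?_
    rw [ValuationSubring.valuation_lt_one_iff]
    exact hV.2 a ha

lemma lt_one_iff {F : Type u} [Field F] (V : ValuationSubring F) (x : F) :
    V.valuation x < 1 ↔ (x = 0 ∨ x⁻¹ ∉ V) := by
  by_cases hx : x = 0
  · subst hx
    simp
  · have h0 : V.valuation x ≠ 0 := (V.valuation.ne_zero_iff).mpr hx
    rw [← V.valuation_le_one_iff, map_inv₀, inv_le_one₀ (zero_lt_iff.mpr h0), not_le]
    simp [hx]

lemma comap_valuation_lt_one_iff (W : ValuationSubring M) (x : L) :
    (W.comap (algebraMap L M)).valuation x < 1 ↔ W.valuation (algebraMap L M x) < 1 := by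
  rw [lt_one_iff, lt_one_iff, ValuationSubring.mem_comap, map_inv₀, map_eq_zero]

/-- `W ∩ L` dominates `A`. -/
lemma dominates_comap {W : ValuationSubring M} (hW : Dominates A (gM A K M) W) :
    Dominates A (gL A K L) (W.comap (algebraMap L M)) := by
  constructor
  · intro a
    rw [ValuationSubring.mem_comap, ← gM_eq A K L M]
    exact hW.1 a
  · intro a ha
    have := hW.2 a ha
    rw [gM_eq A K L M] at this
    rw [comap_valuation_lt_one_iff]
    exact this

/-- a dominating valuation subring upstairs exists. -/
lemma exists_dominating (V : ValuationSubring L) :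
    ∃ W : ValuationSubring M, Dominates V ((algebraMap L M).comp V.subtype) W := by
  obtain ⟨W, hW1, hW2⟩ :=
    IsLocalRing.exists_factor_valuationRing ((algebraMap L M).comp V.subtype)
  refine ⟨W, hW1, fun x hx => ?_⟩
  have hnu : ¬ IsUnit x := hx
  have hnu' : ¬ IsUnit (((algebraMap L M).comp V.subtype).codRestrict W.toSubring hW1 x) :=
    fun hu => hnu (hW2.map_nonunit x hu)
  have hm : (⟨((algebraMap L M).comp V.subtype) x, hW1 x⟩ : W) ∈ maximalIdeal W := hnu'
  rw [ValuationSubring.valuation_lt_one_iff] at hm
  exact hm

lemma dominates_of_comap (W : ValuationSubring M) :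
    Dominates (W.comap (algebraMap L M))
      ((algebraMap L M).comp (W.comap (algebraMap L M)).subtype) W := by
  refine ⟨fun x => ValuationSubring.mem_comap.mp x.2, fun x hx => ?_⟩
  rw [ValuationSubring.valuation_lt_one_iff, comap_valuation_lt_one_iff] at hx
  exact hx

lemma comap_eq_of_dominates {V : ValuationSubring L} {W : ValuationSubring M}
    (hVW : Dominates V ((algebraMap L M).comp V.subtype) W) :
    W.comap (algebraMap L M) = V := by
  apply le_antisymm
  · intro y hy
    rw [ValuationSubring.mem_comap] at hy
    by_contra hyV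
    have hy0 : y ≠ 0 := fun h0 => hyV (h0 ▸ V.zero_mem)
    have hinv : y⁻¹ ∈ V := by
      rcases V.mem_or_inv_mem y with h | h
      · exact absurd h hyV
      · exact h
    have hlt : V.valuation y⁻¹ < 1 := by
      rw [lt_one_iff, inv_inv]
      exact Or.inr hyV
    have h1 := hVW.2 ⟨y⁻¹, hinv⟩ ((ValuationSubring.valuation_lt_one_iff V _).mpr hlt)
    have h2 : W.valuation (algebraMap L M y) ≤ 1 := (W.valuation_le_one_iff _).mpr hy
    have h3 : W.valuation (algebraMap L M y⁻¹) * W.valuation (algebraMap L M y) = 1 := by
      rw [← map_mul, ← map_mul, inv_mul_cancel₀ hy0, map_one, map_one]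
    have h4 : W.valuation (algebraMap L M y⁻¹) * W.valuation (algebraMap L M y) < 1 := by
      calc W.valuation (algebraMap L M y⁻¹) * W.valuation (algebraMap L M y)
          ≤ W.valuation (algebraMap L M y⁻¹) * 1 := by gcongr
        _ = W.valuation (algebraMap L M y⁻¹) := mul_one _
        _ < 1 := h1
    rw [h3] at h4
    exact lt_irrefl _ h4
  · intro x hx
    rw [ValuationSubring.mem_comap]
    exact hVW.1 ⟨x, hx⟩

section core

variable [FiniteDimensional K M] [Algebra.IsSeparable K M]

theorem core {V : ValuationSubring L} {W : ValuationSubring M}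
    (hV : Dominates A (gL A K L) V)
    (hVW : Dominates V ((algebraMap L M).comp V.subtype) W) :
    letI : Algebra A V := (RingHom.codRestrict (gL A K L) V hV.1).toAlgebra
    letI : Algebra A W := (RingHom.codRestrict (gM A K M) W (dominates_trans hV hVW).1).toAlgebra
    letI : Algebra V W := (RingHom.codRestrict ((algebraMap L M).comp V.subtype) W hVW.1).toAlgebra
    ∀ (_ : IsLocalHom (algebraMap A V)) (_ : IsLocalHom (algebraMap A W))
      (_ : IsLocalHom (algebraMap V W)),
    (Ideal.ramificationIdx' (maximalIdeal A) (maximalIdeal W) =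
      Ideal.ramificationIdx' (maximalIdeal A) (maximalIdeal V) *
        Ideal.ramificationIdx' (maximalIdeal V) (maximalIdeal W)) ∧
    (Algebra.IsSeparable (ResidueField A) (ResidueField W) →
      Algebra.IsSeparable (ResidueField A) (ResidueField V)) ∧
    (Algebra.IsSeparable (ResidueField A) (ResidueField V) →
      Algebra.IsSeparable (ResidueField V) (ResidueField W) →
      Algebra.IsSeparable (ResidueField A) (ResidueField W)) ∧
    (IsWeaklyUnramified A W → IsWeaklyUnramified A V) ∧
    (IsWeaklyUnramified A V → IsWeaklyUnramified V W → IsWeaklyUnramified A W) ∧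
    (∀ p : ℕ, CharP (ResidueField A) p → CharP (ResidueField V) p) := by
  have hW := dominates_trans hV hVW
  letI aAV : Algebra A V := (RingHom.codRestrict (gL A K L) V hV.1).toAlgebra
  letI aAW : Algebra A W := (RingHom.codRestrict (gM A K M) W hW.1).toAlgebra
  letI aVW : Algebra V W := (RingHom.codRestrict ((algebraMap L M).comp V.subtype) W hVW.1).toAlgebra
  intro i1 i2 i3
  haveI : IsScalarTower A V W := IsScalarTower.of_algebraMap_eq (fun a => by
    apply Subtype.ext
    exact gM_eq A K L M a)
  haveI : FiniteDimensional K L := FiniteDimensional.left K L M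
  haveI : Algebra.IsSeparable K L := Algebra.isSeparable_tower_bot_of_isSeparable K L M
  haveI dV : IsDiscreteValuationRing V := TameDVR.isDVR_of_dominates A K L V hV
  haveI dW : IsDiscreteValuationRing W := TameDVR.isDVR_of_dominates A K M W hW
  have injAV : Function.Injective (algebraMap A V) := by
    intro a b hab
    have h1 : gL A K L a = gL A K L b := congrArg Subtype.val hab
    exact ((algebraMap K L).injective.comp (IsFractionRing.injective A K)) h1
  have injVW : Function.Injective (algebraMap V W) := by
    intro a b hab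
    have h1 : algebraMap L M a = algebraMap L M b := congrArg Subtype.val hab
    exact Subtype.ext ((algebraMap L M).injective h1)
  refine ⟨TameAbs.ram_tower A V W injAV injVW, fun h => ?_, fun h1 h2 => ?_, fun h => ?_,
    fun h1 h2 => ?_, fun p hp => ?_⟩
  · exact sep_bot A V W
  · exact sep_trans A V W
  · -- weakly unramified descends
    unfold IsWeaklyUnramified at h ⊢
    apply le_antisymm (IsLocalRing.map_maximalIdeal_le (algebraMap A V))
    intro x hx
    obtain ⟨ϖ, hϖ⟩ := IsDiscreteValuationRing.exists_irreducible A
    have hmA : maximalIdeal A = Ideal.span {ϖ} := hϖ.maximalIdeal_eq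
    have hgen : ∀ (B : Type u) [CommRing B] (f : A →+* B),
        Ideal.map f (maximalIdeal A) = Ideal.span {f ϖ} := by
      intro B _ f
      rw [hmA, Ideal.map_span, Set.image_singleton]
    rw [hgen] at h
    rw [hgen, Ideal.mem_span_singleton']
    have hxW : algebraMap V W x ∈ maximalIdeal W := by
      have := IsLocalRing.map_maximalIdeal_le (algebraMap V W)
      exact this (Ideal.mem_map_of_mem _ hx)
    rw [← h, Ideal.mem_span_singleton'] at hxW
    obtain ⟨w, hw⟩ := hxW
    have hϖ0 : gL A K L ϖ ≠ 0 := by
      intro h0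
      apply hϖ.ne_zero
      have hinj : Function.Injective (gL A K L) :=
        (algebraMap K L).injective.comp (IsFractionRing.injective A K)
      apply hinj
      rw [h0, map_zero]
    have hwM : (w : M) * algebraMap L M (gL A K L ϖ) = algebraMap L M (x : L) := by
      have := congrArg Subtype.val hw
      rw [← gM_eq A K L M]
      exact this
    have hy : algebraMap L M ((x : L) / gL A K L ϖ) = (w : M) := by
      rw [map_div₀, ← hwM, mul_div_assoc, div_self, mul_one]
      rw [Ne, map_eq_zero]
      exact hϖ0
    have hyV : (x : L) / gL A K L ϖ ∈ V := by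
      have hc := comap_eq_of_dominates hVW
      have : (x : L) / gL A K L ϖ ∈ W.comap (algebraMap L M) := by
        rw [ValuationSubring.mem_comap, hy]
        exact w.2
      rw [hc] at this
      exact this
    refine ⟨⟨_, hyV⟩, ?_⟩
    apply Subtype.ext
    change (x : L) / gL A K L ϖ * gL A K L ϖ = (x : L)
    rw [div_mul_cancel₀ _ hϖ0]
  · unfold IsWeaklyUnramified at h1 h2 ⊢
    rw [IsScalarTower.algebraMap_eq A V W, ← Ideal.map_map, h1, h2]
  · exact charP_of_injective_algebraMap (algebraMap (ResidueField A) (ResidueField V)).injective p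

theorem tame_sub (hM : IsTamelyRamified A (gM A K M)) : IsTamelyRamified A (gL A K L) := by
  intro V hV inst
  obtain ⟨W, hVW⟩ := exists_dominating (M := M) V
  have hW := dominates_trans hV hVW
  have i2 := isLocalHom_of_dominates hW
  have i3 := isLocalHom_of_dominates hVW
  obtain ⟨h1, h2, h3, h4, h5, h6⟩ := core hV hVW inst i2 i3
  obtain ⟨hsep, hram⟩ := @hM W hW i2
  refine ⟨h2 hsep, fun p hp hchar hdvd => hram p hp hchar ?_⟩
  rw [h1]
  exact Dvd.dvd.mul_right hdvd _

theorem unram_sub (hM : IsUnramifiedExt A (gM A K M)) : IsUnramifiedExt A (gL A K L) := by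
  intro V hV inst
  obtain ⟨W, hVW⟩ := exists_dominating (M := M) V
  have hW := dominates_trans hV hVW
  have i2 := isLocalHom_of_dominates hW
  have i3 := isLocalHom_of_dominates hVW
  obtain ⟨h1, h2, h3, h4, h5, h6⟩ := core hV hVW inst i2 i3
  obtain ⟨hwu, hsep⟩ := @hM W hW i2
  exact ⟨h4 hwu, h2 hsep⟩

theorem tame_comp (hL : IsTamelyRamified A (gL A K L))
    (hML : ∀ (V : ValuationSubring L), Dominates A (gL A K L) V →
        IsTamelyRamified V ((algebraMap L M).comp V.subtype)) :
    IsTamelyRamified A (gM A K M) := by
  intro W hW inst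
  have hV := dominates_comap (L := L) hW
  have hVW := dominates_of_comap (L := L) W
  have i1 := isLocalHom_of_dominates hV
  have i3 := isLocalHom_of_dominates hVW
  obtain ⟨h1, h2, h3, h4, h5, h6⟩ := core hV hVW i1 inst i3
  obtain ⟨hsep1, hram1⟩ := @hL _ hV i1
  obtain ⟨hsep2, hram2⟩ := @hML _ hV W hVW i3
  refine ⟨h3 hsep1 hsep2, fun p hp hchar hdvd => ?_⟩
  rw [h1] at hdvd
  rcases (Nat.Prime.dvd_mul hp).mp hdvd with hd | hd
  · exact hram1 p hp hchar hd
  · exact hram2 p hp (h6 p hchar) hd

theorem unram_comp (hL : IsUnramifiedExt A (gL A K L))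
    (hML : ∀ (V : ValuationSubring L), Dominates A (gL A K L) V →
        IsUnramifiedExt V ((algebraMap L M).comp V.subtype)) :
    IsUnramifiedExt A (gM A K M) := by
  intro W hW inst
  have hV := dominates_comap (L := L) hW
  have hVW := dominates_of_comap (L := L) W
  have i1 := isLocalHom_of_dominates hV
  have i3 := isLocalHom_of_dominates hVW
  obtain ⟨h1, h2, h3, h4, h5, h6⟩ := core hV hVW i1 inst i3
  obtain ⟨hwu1, hsep1⟩ := @hL _ hV i1
  obtain ⟨hwu2, hsep2⟩ := @hML _ hV W hVW i3
  exact ⟨h5 hwu1 hwu2, h3 hsep1 hsep2⟩

end core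

end Groth.Agent.Lib.Helper24.TameTower
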