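import Mathlib.NumberTheory.RamificationInertia.Ramification
import Mathlib.RingTheory.DiscreteValuationRing.Basic
import Mathlib.RingTheory.LocalRing.ResidueField.Basic
import Mathlib.FieldTheory.Separable
import Mathlib.FieldTheory.SeparableDegree
import Mathlib.RingTheory.DedekindDomain.Dvr

/-! Abstract tower lemmas for local extensions of DVRs. -/

set_option autoImplicit false

namespace Groth.Agent.Lib.Helper24.TameAbs

open IsLocalRing

universe u

variable (A V W : Type u) [CommRing A] [CommRing V] [CommRing W]
  [IsDomain A] [IsDiscreteValuationRing A]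
  [IsDomain V] [IsDiscreteValuationRing V]
  [IsDomain W] [IsDiscreteValuationRing W]
  [Algebra A V] [Algebra V W] [Algebra A W] [IsScalarTower A V W]

theorem ram_tower (hAV : Function.Injective (algebraMap A V))
    (hVW : Function.Injective (algebraMap V W)) [IsLocalHom (algebraMap V W)] :
    Ideal.ramificationIdx' (maximalIdeal A) (maximalIdeal W) =
      Ideal.ramificationIdx' (maximalIdeal A) (maximalIdeal V) *
        Ideal.ramificationIdx' (maximalIdeal V) (maximalIdeal W) := by
  have hA : maximalIdeal A ≠ ⊥ := IsDiscreteValuationRing.not_a_field A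
  have hV : maximalIdeal V ≠ ⊥ := IsDiscreteValuationRing.not_a_field V
  apply Ideal.ramificationIdx'_algebra_tower
  · rw [Ne, Ideal.map_eq_bot_iff_of_injective hVW]
    exact hV
  · rw [Ne, Ideal.map_eq_bot_iff_of_injective]
    · exact hA
    · rw [IsScalarTower.algebraMap_eq A V W]
      exact hVW.comp hAV
  · exact IsLocalRing.map_maximalIdeal_le (algebraMap V W)

end Groth.Agent.Lib.Helper24.TameAbs
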